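import Groth.Agent.FlatMor2.FibrewiseFlat.Noetherian
import Groth.Agent.FlatMorOne.FlatLocusModels
import Groth.Agent.Flatmor4.ModuleApprox
import Groth.Agent.PropsBasic.FPSections

/-!
# The locus of fibrewise flatness over an arbitrary affine base is constructible
-/

set_option autoImplicit false
set_option linter.style.haveILetI false

universe u

open CategoryTheory CategoryTheory.Limits AlgebraicGeometry Topology TensorProduct

namespace Groth.FlatMor2.FibrewiseFlat

set_option synthInstance.maxHeartbeats 200000 in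
theorem isConstructible_fibFlatSet_spec (A B C : Type u) [CommRing A] [CommRing B] [CommRing C]
    [Algebra A B] [Algebra B C] [Algebra.FinitePresentation A B] [Algebra.FinitePresentation B C]
    (M : ModuleCat.{u} (CommRingCat.of C)) [Module.FinitePresentation (CommRingCat.of C) M] :
    IsConstructible (fibFlatSet (Spec.map (CommRingCat.ofHom (algebraMap B C)))
      (Spec.map (CommRingCat.ofHom (algebraMap A B))) (tilde M)) := by
  classical
  let P := Algebra.Presentation.ofFinitePresentation A B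
  let Q := Algebra.Presentation.ofFinitePresentation B C
  obtain ⟨n, π, hπ⟩ := Module.Finite.exists_fin' C M
  obtain ⟨s, hs⟩ := Module.FinitePresentation.fg_ker π hπ
  choose qC hqC using fun x : C => Q.algebraMap_surjective x
  choose qB hqB using fun x : B => P.algebraMap_surjective x
  let TB : Set B := Q.coeffs ∪ ⋃ (v ∈ (s : Set (Fin n → C))) (i : Fin n), ((qC (v i)).coeffs : Set B)
  have hTB : TB.Finite := Q.finite_coeffs.union
    (s.finite_toSet.biUnion fun v _ => Set.finite_iUnion fun i => Finset.finite_toSet _)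
  let coe : Set A := P.coeffs ∪ ⋃ b ∈ TB, ((qB b).coeffs : Set A)
  have hcoe : coe.Finite := P.finite_coeffs.union (hTB.biUnion fun b _ => Finset.finite_toSet _)
  let A₀ : Subalgebra ℤ A := Algebra.adjoin ℤ coe
  haveI : Algebra.FiniteType ℤ A₀ := .adjoin_of_finite hcoe
  haveI : IsNoetherianRing A₀ := Algebra.FiniteType.isNoetherianRing ℤ A₀
  haveI : P.HasCoeffs A₀ := ⟨fun x hx => ⟨⟨x, Algebra.subset_adjoin (Or.inl hx)⟩, rfl⟩⟩
  -- the model of `B`
  let B₀ := P.ModelOfHasCoeffs A₀
  let jB : B₀ →ₐ[A₀] B := (((P.tensorModelOfHasCoeffsEquiv A₀).toAlgHom).restrictScalars A₀).comp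
    (Algebra.TensorProduct.includeRight : B₀ →ₐ[A₀] A ⊗[A₀] B₀)
  letI : Algebra B₀ B := jB.toRingHom.toAlgebra
  haveI : IsScalarTower A₀ B₀ B := IsScalarTower.of_algebraMap_eq fun r => (jB.commutes r).symm
  have hpB : Algebra.IsPushout A₀ A B₀ B := Groth.FlatMorOne.isPushout_modelOfHasCoeffs P fun _ => rfl
  have hrB : TB ⊆ Set.range (algebraMap B₀ B) := by
    intro b hb
    obtain ⟨p, hp⟩ : qB b ∈ Set.range (MvPolynomial.map (algebraMap A₀ A)) := by
      rw [MvPolynomial.mem_range_map_iff_coeffs_subset]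
      intro x hx
      exact ⟨⟨x, Algebra.subset_adjoin (Or.inr (Set.mem_biUnion hb hx))⟩, rfl⟩
    refine ⟨Ideal.Quotient.mk _ p, ?_⟩
    show P.tensorModelOfHasCoeffsEquiv A₀ (1 ⊗ₜ Ideal.Quotient.mk _ p) = b
    rw [Algebra.Presentation.tensorModelOfHasCoeffsEquiv_tmul, map_one, one_mul,
      ← MvPolynomial.aeval_map_algebraMap A, hp, ← Algebra.Generators.algebraMap_apply, hqB]
  -- the model of `C`
  letI : Algebra B₀ C := ((algebraMap B C).comp (algebraMap B₀ B)).toAlgebra
  haveI : IsScalarTower B₀ B C := IsScalarTower.of_algebraMap_eq' rfl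
  haveI : Q.HasCoeffs B₀ := ⟨Set.subset_union_left.trans hrB⟩
  let C₀ := Q.ModelOfHasCoeffs B₀
  let jC : C₀ →ₐ[B₀] C := (((Q.tensorModelOfHasCoeffsEquiv B₀).toAlgHom).restrictScalars B₀).comp
    (Algebra.TensorProduct.includeRight : C₀ →ₐ[B₀] B ⊗[B₀] C₀)
  letI : Algebra C₀ C := jC.toRingHom.toAlgebra
  haveI : IsScalarTower B₀ C₀ C := IsScalarTower.of_algebraMap_eq fun r => (jC.commutes r).symm
  have hpC : Algebra.IsPushout B₀ B C₀ C := Groth.FlatMorOne.isPushout_modelOfHasCoeffs Q fun _ => rfl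
  have hlift : ∀ v ∈ s, ∀ i, ∃ c₀, algebraMap C₀ C c₀ = v i := by
    intro v hv i
    obtain ⟨p, hp⟩ : qC (v i) ∈ Set.range (MvPolynomial.map (algebraMap B₀ B)) := by
      rw [MvPolynomial.mem_range_map_iff_coeffs_subset]
      intro x hx
      exact hrB (Or.inr (Set.mem_biUnion hv (Set.mem_iUnion.mpr ⟨i, hx⟩)))
    refine ⟨Ideal.Quotient.mk _ p, ?_⟩
    show Q.tensorModelOfHasCoeffsEquiv B₀ (1 ⊗ₜ Ideal.Quotient.mk _ p) = v i
    rw [Algebra.Presentation.tensorModelOfHasCoeffsEquiv_tmul, map_one, one_mul,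
      ← MvPolynomial.aeval_map_algebraMap B, hp, ← Algebra.Generators.algebraMap_apply, hqC]
  obtain ⟨N, _, _, hN, ⟨eN⟩⟩ := Groth.Flatmor4.exists_model_of_lifts π hπ s hs hlift
  haveI : IsNoetherianRing B₀ := Algebra.FiniteType.isNoetherianRing A₀ B₀
  haveI : IsNoetherianRing C₀ := Algebra.FiniteType.isNoetherianRing B₀ C₀
  let N' : ModuleCat.{u} (CommRingCat.of C₀) := ModuleCat.of C₀ N
  haveI : Module.Finite (CommRingCat.of C₀) N' := hN
  haveI : IsNoetherianRing (CommRingCat.of C₀) := inferInstanceAs (IsNoetherianRing C₀)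
  haveI : Module.FinitePresentation (CommRingCat.of C₀) N' := Module.finitePresentation_of_finite _ _
  -- the squares
  have hY := isPullback_SpecMap_of_isPushout _ _ _ _
    ((CommRingCat.isPushout_iff_isPushout (R' := A) (S := B₀) (S' := B)).mpr hpB)
  have hX := isPullback_SpecMap_of_isPushout _ _ _ _
    ((CommRingCat.isPushout_iff_isPushout (R' := B) (S := C₀) (S' := C)).mpr hpC)
  let φ : CommRingCat.of C₀ ⟶ CommRingCat.of C := CommRingCat.ofHom (algebraMap C₀ C)
  let I : (Scheme.Modules.pullback (Spec.map φ)).obj (tilde N') ≅ tilde M :=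
    (Groth.PropsBasic2.TildePullback.iso φ).app N' ≪≫ (tilde.functor _).mapIso eN.toModuleIso
  let f₀ := Spec.map (CommRingCat.ofHom (algebraMap B₀ C₀))
  let h₀ := Spec.map (CommRingCat.ofHom (algebraMap A₀ B₀))
  haveI : IsNoetherianRing (CommRingCat.of A₀) := inferInstanceAs (IsNoetherianRing A₀)
  haveI : LocallyOfFiniteType h₀ := by
    rw [HasRingHomProperty.Spec_iff (P := @LocallyOfFiniteType)]
    exact RingHom.finiteType_algebraMap.mpr inferInstance
  haveI : LocallyOfFiniteType f₀ := by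
    rw [HasRingHomProperty.Spec_iff (P := @LocallyOfFiniteType)]
    exact RingHom.finiteType_algebraMap.mpr inferInstance
  have key := (Spec.map φ).isConstructible_preimage
    (isConstructible_fibFlatSet_noetherian f₀ h₀ (tilde N') (Groth.PropsBasic.FPSections.isFP_tilde N'))
  rw [← fibFlatSet_baseChange f₀ h₀ (tilde N') hY.flip (hX.flip.paste_vert hY.flip) hX.flip.w] at key
  rwa [fibFlatSet_congr _ _ I] at key

end Groth.FlatMor2.FibrewiseFlat
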