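import Groth.Agent.FlatMor2.RelFlatLocus.Main

/-!
# The locus of fibrewise flatness of a module, and its behaviour under base change
-/

set_option autoImplicit false
set_option linter.style.haveILetI false

universe u

open CategoryTheory CategoryTheory.Limits AlgebraicGeometry IsLocalRing

namespace Groth.FlatMor2.FibrewiseFlat

variable {X Y S : Scheme.{u}} (f : X ⟶ Y) (h : Y ⟶ S) (F : X.Modules)

/-- The points at which the module restricted to the fibre over `S` is flat over the fibre of `Y`,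
read on the local rings. -/
def fibFlatSet : Set X :=
  {x | letI := FlatMod.moduleStalkOver f F x
    Module.Flat (Y.presheaf.stalk (f x) ⧸
        (maximalIdeal (S.presheaf.stalk (h (f x)))).map (h.stalkMap (f x)).hom)
      (F.presheaf.stalk x ⧸ ((maximalIdeal (S.presheaf.stalk (h (f x)))).map (h.stalkMap (f x)).hom •
        (⊤ : Submodule (Y.presheaf.stalk (f x)) (F.presheaf.stalk x))))}

theorem mem_fibFlatSet_iff (s : S) (z : (f ≫ h).fiber s) (x : X) (hx : (f ≫ h).fiberι s z = x) :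
    x ∈ fibFlatSet f h F ↔ FlatMod.IsFlatOverAt (MoreMor.fiberMap f h s)
      ((Scheme.Modules.pullback ((f ≫ h).fiberι s)).obj F) z :=
  (RelFlatLocus.fiberMap_module_flat_iff f h s F z x hx).symm

/-- Fibrewise flatness is insensitive to a change of base. -/
theorem fibFlatSet_baseChange [F.IsQuasicoherent] {X' Y' S' : Scheme.{u}} {h₀ : S' ⟶ S} {gY : Y' ⟶ Y}
    {g' : Y' ⟶ S'} (hY : IsPullback gY g' h h₀) {gX : X' ⟶ X} {f' : X' ⟶ Y'}
    (hX : IsPullback gX (f' ≫ g') (f ≫ h) h₀) (w : gX ≫ f = f' ≫ gY) :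
    fibFlatSet f' g' ((Scheme.Modules.pullback gX).obj F) = gX ⁻¹' fibFlatSet f h F := by
  ext x'
  let s' := g' (f' x')
  obtain ⟨qU, hqU, qU₁, qU₂⟩ := Groth.AlgSp2.FlatFib.exists_fibre_map hX s'
  obtain ⟨qV, hqV, qV₁, qV₂⟩ := Groth.AlgSp2.FlatFib.exists_fibre_map hY s'
  have e₁ : MoreMor.fiberMap f h (h₀ s') ≫ h.fiberι (h₀ s') = (f ≫ h).fiberι (h₀ s') ≫ f :=
    pullback.lift_fst _ _ _
  have e₂ : MoreMor.fiberMap f h (h₀ s') ≫ h.fiberToSpecResidueField (h₀ s') =
      (f ≫ h).fiberToSpecResidueField (h₀ s') := pullback.lift_snd _ _ _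
  have e₃ : MoreMor.fiberMap f' g' s' ≫ g'.fiberι s' = (f' ≫ g').fiberι s' ≫ f' :=
    pullback.lift_fst _ _ _
  have e₄ : MoreMor.fiberMap f' g' s' ≫ g'.fiberToSpecResidueField s' =
      (f' ≫ g').fiberToSpecResidueField s' := pullback.lift_snd _ _ _
  have e : qU ≫ MoreMor.fiberMap f h (h₀ s') = MoreMor.fiberMap f' g' s' ≫ qV := by
    refine (IsPullback.of_hasPullback h (S.fromSpecResidueField _)).hom_ext ?_ ?_
    · change (qU ≫ _) ≫ h.fiberι _ = (_ ≫ qV) ≫ h.fiberι _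
      rw [Category.assoc, e₁, reassoc_of% qU₁, Category.assoc, qV₁, reassoc_of% e₃, w]
    · change (qU ≫ _) ≫ h.fiberToSpecResidueField _ = (_ ≫ qV) ≫ h.fiberToSpecResidueField _
      rw [Category.assoc, e₂, qU₂, Category.assoc, qV₂, reassoc_of% e₄]
  have hsq : IsPullback qU (MoreMor.fiberMap f' g' s') (MoreMor.fiberMap f h (h₀ s')) qV := by
    have hbig := (Groth.AlgSp2.FlatFib.isPullback_fiberMap f' g' s').paste_horiz
      (IsPullback.of_bot hX w hY)
    rw [← qU₁, ← qV₁] at hbig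
    exact hbig.of_right e (Groth.AlgSp2.FlatFib.isPullback_fiberMap f h (h₀ s'))
  let z₀ : (f' ≫ g').fiber s' := (f' ≫ g').asFiber x'
  have hι' : (f' ≫ g').fiberι s' z₀ = x' := Scheme.Hom.fiberι_asFiber (f' ≫ g') x'
  have hι : (f ≫ h).fiberι (h₀ s') (qU z₀) = gX x' := by
    rw [← Scheme.Hom.comp_apply, qU₁, Scheme.Hom.comp_apply, hι']
  let Fs := (Scheme.Modules.pullback ((f ≫ h).fiberι (h₀ s'))).obj F
  let I : (Scheme.Modules.pullback ((f' ≫ g').fiberι s')).obj ((Scheme.Modules.pullback gX).obj F) ≅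
      (Scheme.Modules.pullback qU).obj Fs :=
    (Scheme.Modules.pullbackComp ((f' ≫ g').fiberι s') gX).app F ≪≫
      (Scheme.Modules.pullbackCongr qU₁.symm).app F ≪≫
      (Scheme.Modules.pullbackComp qU ((f ≫ h).fiberι (h₀ s'))).symm.app F
  rw [Set.mem_preimage, mem_fibFlatSet_iff f' g' _ s' z₀ x' hι', mem_fibFlatSet_iff f h F _ _ _ hι,
    Groth.FlatMorOne.isFlatOverAt_congr _ I]
  refine ⟨fun h1 => ?_, fun h1 => Groth.FlatMorOne.isFlatOverAt_baseChange hsq Fs z₀ h1⟩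
  have h2 := RelFlatLocus.isFlatOverAt_comp_of_flat _ qV _ z₀ (Flat.stalkMap qV _) h1
  rwa [← e, ← Groth.Flatmor4.isFlatOverAt_pullback_iff qU _ _ z₀ (Flat.stalkMap qU z₀)] at h2

/-- Fibrewise flatness is local on the source and on the middle scheme. -/
theorem fibFlatSet_openImmersion [F.IsQuasicoherent] {W V : Scheme.{u}} (jX : W ⟶ X) [IsOpenImmersion jX]
    (jY : V ⟶ Y) [IsOpenImmersion jY] (f' : W ⟶ V) (w : f' ≫ jY = jX ≫ f) :
    fibFlatSet f' (jY ≫ h) ((Scheme.Modules.pullback jX).obj F) = jX ⁻¹' fibFlatSet f h F := by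
  ext x
  let s := h (jY (f' x))
  have w' : f' ≫ jY ≫ h = jX ≫ f ≫ h := by rw [← Category.assoc, w, Category.assoc]
  let qV : (jY ≫ h).fiber s ⟶ h.fiber s := pullback.lift ((jY ≫ h).fiberι s ≫ jY)
    ((jY ≫ h).fiberToSpecResidueField s) (by rw [Category.assoc]; exact pullback.condition)
  let qU : (f' ≫ jY ≫ h).fiber s ⟶ (f ≫ h).fiber s := pullback.lift ((f' ≫ jY ≫ h).fiberι s ≫ jX)
    ((f' ≫ jY ≫ h).fiberToSpecResidueField s) (by
      rw [Category.assoc, ← w']; exact pullback.condition)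
  have qV₁ : qV ≫ h.fiberι s = (jY ≫ h).fiberι s ≫ jY := pullback.lift_fst _ _ _
  have qV₂ : qV ≫ h.fiberToSpecResidueField s = (jY ≫ h).fiberToSpecResidueField s :=
    pullback.lift_snd _ _ _
  have qU₁ : qU ≫ (f ≫ h).fiberι s = (f' ≫ jY ≫ h).fiberι s ≫ jX := pullback.lift_fst _ _ _
  have qU₂ : qU ≫ (f ≫ h).fiberToSpecResidueField s = (f' ≫ jY ≫ h).fiberToSpecResidueField s :=
    pullback.lift_snd _ _ _
  have hpV : IsPullback ((jY ≫ h).fiberι s) qV jY (h.fiberι s) := by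
    refine IsPullback.of_bot ?_ qV₁.symm (IsPullback.of_hasPullback h (S.fromSpecResidueField s))
    rw [show qV ≫ pullback.snd h (S.fromSpecResidueField s) = (jY ≫ h).fiberToSpecResidueField s from qV₂]
    exact IsPullback.of_hasPullback (jY ≫ h) (S.fromSpecResidueField s)
  have hpU : IsPullback ((f' ≫ jY ≫ h).fiberι s) qU jX ((f ≫ h).fiberι s) := by
    refine IsPullback.of_bot ?_ qU₁.symm (IsPullback.of_hasPullback (f ≫ h) (S.fromSpecResidueField s))
    rw [show qU ≫ pullback.snd (f ≫ h) (S.fromSpecResidueField s) =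
      (f' ≫ jY ≫ h).fiberToSpecResidueField s from qU₂, ← w']
    exact IsPullback.of_hasPullback (f' ≫ jY ≫ h) (S.fromSpecResidueField s)
  haveI : IsOpenImmersion qV := MorphismProperty.of_isPullback hpV inferInstance
  haveI : IsOpenImmersion qU := MorphismProperty.of_isPullback hpU inferInstance
  have e₁ : MoreMor.fiberMap f h s ≫ h.fiberι s = (f ≫ h).fiberι s ≫ f := pullback.lift_fst _ _ _
  have e₂ : MoreMor.fiberMap f h s ≫ h.fiberToSpecResidueField s = (f ≫ h).fiberToSpecResidueField s :=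
    pullback.lift_snd _ _ _
  have e₃ : MoreMor.fiberMap f' (jY ≫ h) s ≫ (jY ≫ h).fiberι s = (f' ≫ jY ≫ h).fiberι s ≫ f' :=
    pullback.lift_fst _ _ _
  have e₄ : MoreMor.fiberMap f' (jY ≫ h) s ≫ (jY ≫ h).fiberToSpecResidueField s =
      (f' ≫ jY ≫ h).fiberToSpecResidueField s := pullback.lift_snd _ _ _
  have e : qU ≫ MoreMor.fiberMap f h s = MoreMor.fiberMap f' (jY ≫ h) s ≫ qV := by
    refine (IsPullback.of_hasPullback h (S.fromSpecResidueField _)).hom_ext ?_ ?_
    · change (qU ≫ _) ≫ h.fiberι _ = (_ ≫ qV) ≫ h.fiberι _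
      rw [Category.assoc, e₁, reassoc_of% qU₁, Category.assoc, qV₁, reassoc_of% e₃, w]
    · change (qU ≫ _) ≫ h.fiberToSpecResidueField _ = (_ ≫ qV) ≫ h.fiberToSpecResidueField _
      rw [Category.assoc, e₂, qU₂, Category.assoc, qV₂, e₄]
  let z₀ : (f' ≫ jY ≫ h).fiber s := (f' ≫ jY ≫ h).asFiber x
  have hι' : (f' ≫ jY ≫ h).fiberι s z₀ = x := Scheme.Hom.fiberι_asFiber (f' ≫ jY ≫ h) x
  have hι : (f ≫ h).fiberι s (qU z₀) = jX x := by
    rw [← Scheme.Hom.comp_apply, qU₁, Scheme.Hom.comp_apply, hι']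
  let Fs := (Scheme.Modules.pullback ((f ≫ h).fiberι s)).obj F
  let I : (Scheme.Modules.pullback ((f' ≫ jY ≫ h).fiberι s)).obj ((Scheme.Modules.pullback jX).obj F) ≅
      (Scheme.Modules.pullback qU).obj Fs :=
    (Scheme.Modules.pullbackComp ((f' ≫ jY ≫ h).fiberι s) jX).app F ≪≫
      (Scheme.Modules.pullbackCongr qU₁.symm).app F ≪≫
      (Scheme.Modules.pullbackComp qU ((f ≫ h).fiberι s)).symm.app F
  rw [Set.mem_preimage, mem_fibFlatSet_iff f' (jY ≫ h) _ s z₀ x hι', mem_fibFlatSet_iff f h F _ _ _ hι,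
    Groth.FlatMorOne.isFlatOverAt_congr _ I, ← Groth.FlatMorOne.isFlatOverAt_comp_openImmersion _ qV,
    ← e, ← Groth.Flatmor4.isFlatOverAt_pullback_iff qU _ _ z₀ (Flat.stalkMap qU z₀)]

theorem flat_quot_congr {R M : Type u} [CommRing R] [AddCommGroup M] [Module R M] {J J' : Ideal R}
    (hJ : J = J') : Module.Flat (R ⧸ J) (M ⧸ (J • ⊤ : Submodule R M)) ↔
      Module.Flat (R ⧸ J') (M ⧸ (J' • ⊤ : Submodule R M)) := by
  subst hJ
  rfl

theorem fibFlatSet_congr {F G : X.Modules} (e : F ≅ G) : fibFlatSet f h F = fibFlatSet f h G := by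
  ext x
  rw [mem_fibFlatSet_iff f h F _ _ x (Scheme.Hom.fiberι_asFiber _ x),
    mem_fibFlatSet_iff f h G _ _ x (Scheme.Hom.fiberι_asFiber _ x),
    Groth.FlatMorOne.isFlatOverAt_congr _ ((Scheme.Modules.pullback _).mapIso e)]

/-- Fibrewise flatness is local on the base. -/
theorem fibFlatSet_comp_openImmersion {T : Scheme.{u}} (j : S ⟶ T) [IsOpenImmersion j] :
    fibFlatSet f (h ≫ j) F = fibFlatSet f h F := by
  ext x
  let y : Y := f x
  let e := (asIso (j.stalkMap (h y))).commRingCatIsoToRingEquiv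
  have hJ : (maximalIdeal (T.presheaf.stalk ((h ≫ j) y))).map ((h ≫ j).stalkMap y).hom =
      (maximalIdeal (S.presheaf.stalk (h y))).map (h.stalkMap y).hom := by
    rw [Scheme.Hom.stalkMap_comp]
    refine Eq.trans (Ideal.map_map (j.stalkMap (h y)).hom (h.stalkMap y).hom).symm ?_
    refine congrArg (Ideal.map (h.stalkMap y).hom) ?_
    change Ideal.map (j.stalkMap (h y)).hom (maximalIdeal (T.presheaf.stalk (j (h y)))) = _
    rw [← IsLocalRing.maximalIdeal_comap (j.stalkMap (h y)).hom]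
    exact Ideal.map_comap_of_surjective _ e.surjective _
  letI := FlatMod.moduleStalkOver f F x
  exact flat_quot_congr hJ

end Groth.FlatMor2.FibrewiseFlat
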