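import Groth.Agent.FlatMor2.FibrewiseFlat.Affine
import Groth.Agent.Pi1FPDesc.Basic
import Groth.Agent.EGA41Two.ConsTop

/-!
# The locus of fibrewise flatness is locally constructible
-/

set_option autoImplicit false
set_option linter.style.haveILetI false

universe u

open CategoryTheory CategoryTheory.Limits AlgebraicGeometry Topology Groth.QCohMod

namespace Groth.FlatMor2.FibrewiseFlat

variable {X Y S : Scheme.{u}} (f : X ⟶ Y) (h : Y ⟶ S) (F : X.Modules) [F.IsQuasicoherent]
  [LocallyOfFinitePresentation (f ≫ h)] [LocallyOfFinitePresentation h]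

theorem isConstructible_fibFlatSet_chart (hF : CohB1.IsFP F) {U : S.Opens} (hU : IsAffineOpen U)
    {O : Y.Opens} (hO : IsAffineOpen O) (hOU : O ≤ h ⁻¹ᵁ U) {W : X.Opens} (hW : IsAffineOpen W)
    (hWO : W ≤ f ⁻¹ᵁ O) : IsConstructible (hW.fromSpec ⁻¹' fibFlatSet f h F) := by
  letI := (h.appLE U O hOU).hom.toAlgebra
  letI := (f.appLE O W hWO).hom.toAlgebra
  haveI : LocallyOfFinitePresentation f := Groth.SpectralTopology.lfp_of_comp f h
  haveI : Algebra.FinitePresentation Γ(S, U) Γ(Y, O) := h.finitePresentation_appLE hU hO hOU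
  haveI : Algebra.FinitePresentation Γ(Y, O) Γ(X, W) := f.finitePresentation_appLE hO hW hWO
  let F' := (Scheme.Modules.pullback hW.fromSpec).obj F
  haveI : F'.IsQuasicoherent := isQCoh_pullback_obj hW.fromSpec F
  have hF' : CohB1.IsFP F' := isFP_pullback hW.fromSpec F hF
  let M : ModuleCat.{u} Γ(X, W) := moduleSpecΓFunctor.obj F'
  let I : tilde M ≅ F' := @asIso _ _ _ _ (Scheme.Modules.fromTildeΓ (R := Γ(X, W)) F')
    (Scheme.Modules.isIso_fromTildeΓ_of_isQuasicoherent (R := Γ(X, W)) F')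
  haveI : Module.FinitePresentation Γ(X, W) M :=
    (Groth.PropsBasic.FPSections.isFP_tilde_iff M).1 (Groth.Pi1FPDesc.isFP_of_iso I.symm hF')
  have key := isConstructible_fibFlatSet_spec Γ(S, U) Γ(Y, O) Γ(X, W) M
  rw [fibFlatSet_congr _ _ I, ← fibFlatSet_comp_openImmersion _ _ _ hU.fromSpec] at key
  change IsConstructible (fibFlatSet (Spec.map (f.appLE O W hWO))
    (Spec.map (h.appLE U O hOU) ≫ hU.fromSpec) F') at key
  rw [IsAffineOpen.SpecMap_appLE_fromSpec h hU hO hOU] at key
  rwa [fibFlatSet_openImmersion f h F hW.fromSpec hO.fromSpec _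
    (IsAffineOpen.SpecMap_appLE_fromSpec f hO hW hWO)] at key

theorem isLocallyConstructible_fibFlatSet (hF : CohB1.IsFP F) :
    IsLocallyConstructible (fibFlatSet f h F) := by
  intro x
  obtain ⟨U, hU, hxU, -⟩ := exists_isAffineOpen_mem_and_subset (U := (⊤ : S.Opens)) (x := h (f x)) trivial
  obtain ⟨O, hO, hxO, hOU⟩ := exists_isAffineOpen_mem_and_subset (U := h ⁻¹ᵁ U) (x := f x) hxU
  obtain ⟨W, hW, hxW, hWO⟩ := exists_isAffineOpen_mem_and_subset (U := f ⁻¹ᵁ O) (x := x) hxO
  refine ⟨W, W.2.mem_nhds hxW, W.2, ?_⟩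
  convert! hW.isoSpec.hom.isConstructible_preimage (isConstructible_fibFlatSet_chart f h F hF hU hO hOU hW hWO)
  ext z
  show z.1 ∈ fibFlatSet f h F ↔ hW.fromSpec (hW.isoSpec.hom z) ∈ fibFlatSet f h F
  rw [← Scheme.Hom.comp_apply, hW.isoSpec_hom_fromSpec]
  rfl

/-- The points of the base over which the module is flat on the fibre form a locally constructible set. -/
theorem isLocallyConstructible_forall_fibFlat [QuasiCompact (f ≫ h)] (hF : CohB1.IsFP F) :
    IsLocallyConstructible {s : S | ∀ x : X, (f ≫ h) x = s → x ∈ fibFlatSet f h F} := by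
  convert! Groth.EGA41Two.isLocallyConstructible_compl
    ((f ≫ h).isLocallyConstructible_image (Groth.EGA41Two.isLocallyConstructible_compl
      (isLocallyConstructible_fibFlatSet f h F hF))) using 1
  ext s
  simp only [Set.mem_compl_iff, Set.mem_ofPred_eq, Set.mem_image, not_exists, not_and]
  exact ⟨fun hs x hx e => hx (hs x e), fun hs x e => by_contra fun hx => hs x hx e⟩

end Groth.FlatMor2.FibrewiseFlat

namespace Groth.FlatMor2.FibrewiseFlat

variable {X Y S : Scheme.{u}}

theorem mem_fibFlatSet_iff_forall_squares (f : X ⟶ Y) (h : Y ⟶ S) (g : X ⟶ S) (w : f ≫ h = g)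
    (F : X.Modules) [F.IsQuasicoherent] (x : X) : x ∈ fibFlatSet f h F ↔
      ∀ (Xs Ys : Scheme.{u}) (ιX : Xs ⟶ X) (ιY : Ys ⟶ Y) (fs : Xs ⟶ Ys)
        (pY : Ys ⟶ Spec (S.residueField (g.base x))),
        IsPullback ιY pY h (S.fromSpecResidueField (g.base x)) → IsPullback ιX fs f ιY →
          ∀ x' : ↥Xs, ιX.base x' = x →
            FlatMod.IsFlatOverAt fs ((Scheme.Modules.pullback ιX).obj F) x' := by
  subst w
  let s := (f ≫ h) x
  constructor
  · intro hx Xs Ys ιX ιY fs pY hY hX x' hx'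
    let eY : Ys ≅ h.fiber s := hY.isoIsPullback _ _ (IsPullback.of_hasPullback h (S.fromSpecResidueField s))
    have hX' : IsPullback ιX (fs ≫ eY.hom) f (h.fiberι s) := by
      refine hX.of_iso (Iso.refl _) (Iso.refl _) eY (Iso.refl _) (by simp) (by simp) (by simp) ?_
      simp only [Iso.refl_hom, Category.comp_id]
      exact (IsPullback.isoIsPullback_hom_fst ..).symm
    let eX := hX'.isoIsPullback _ _ (Groth.AlgSp2.FlatFib.isPullback_fiberMap f h s)
    have e1 : eX.hom ≫ (f ≫ h).fiberι s = ιX := IsPullback.isoIsPullback_hom_fst ..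
    have e2 : eX.hom ≫ MoreMor.fiberMap f h s = fs ≫ eY.hom := IsPullback.isoIsPullback_hom_snd ..
    let I : (Scheme.Modules.pullback ιX).obj F ≅
        (Scheme.Modules.pullback eX.hom).obj ((Scheme.Modules.pullback ((f ≫ h).fiberι s)).obj F) :=
      (Scheme.Modules.pullbackCongr e1.symm).app F ≪≫
        (Scheme.Modules.pullbackComp eX.hom ((f ≫ h).fiberι s)).symm.app F
    rw [Groth.FlatMorOne.isFlatOverAt_congr _ I, ← Groth.FlatMorOne.isFlatOverAt_comp_openImmersion _ eY.hom,
      ← e2, ← Groth.Flatmor4.isFlatOverAt_pullback_iff eX.hom _ _ x' (Flat.stalkMap eX.hom x'),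
      ← mem_fibFlatSet_iff f h F s (eX.hom x') x (by rw [← Scheme.Hom.comp_apply, e1]; exact hx')]
    exact hx
  · intro H
    exact (mem_fibFlatSet_iff f h F s ((f ≫ h).asFiber x) x (Scheme.Hom.fiberι_asFiber _ x)).2
      (H _ _ _ _ _ _ (IsPullback.of_hasPullback h (S.fromSpecResidueField s))
        (Groth.AlgSp2.FlatFib.isPullback_fiberMap f h s) _ (Scheme.Hom.fiberι_asFiber _ x))

end Groth.FlatMor2.FibrewiseFlat
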