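import Groth.Agent.FlatMor2.FibrewiseFlat.Locus
import Groth.Agent.FlatMor2.FibreFlatGeneric.Main
import Groth.Agent.QCohMod.PullbackQCoh

/-!
# The locus of fibrewise flatness over a Noetherian affine base is constructible
-/

set_option autoImplicit false
set_option linter.style.haveILetI false

universe u

open CategoryTheory CategoryTheory.Limits AlgebraicGeometry Topology Groth.QCohMod

namespace Groth.FlatMor2.FibrewiseFlat

theorem isConstructible_fibFlatSet_noetherian {A : CommRingCat.{u}} [IsNoetherianRing A]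
    {X Y : Scheme.{u}} (f : X ⟶ Y) (h : Y ⟶ Spec A) [LocallyOfFiniteType h] [QuasiCompact h]
    [LocallyOfFiniteType (f ≫ h)] [QuasiCompact (f ≫ h)] (F : X.Modules) [F.IsQuasicoherent]
    (hF : CohB1.IsFP F) : IsConstructible (fibFlatSet f h F) := by
  haveI : IsLocallyNoetherian X := LocallyOfFiniteType.isLocallyNoetherian (f ≫ h)
  haveI : CompactSpace X := QuasiCompact.compactSpace_of_compactSpace (f ≫ h)
  haveI : IsNoetherian X := {}
  refine Groth.SpectralTopology.isConstructible_of_forall_irreducible fun Z hZ hirr => ?_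
  obtain ⟨ζ, hζ⟩ := QuasiSober.sober hirr hZ
  have hζZ : ζ ∈ Z := hζ.def ▸ subset_closure rfl
  let p : Ideal A := ((f ≫ h) ζ).asIdeal
  haveI : p.IsPrime := ((f ≫ h) ζ).isPrime
  let q := CommRingCat.ofHom (Ideal.Quotient.mk p)
  let i : Spec (.of (A ⧸ p)) ⟶ Spec A := Spec.map q
  haveI : IsClosedImmersion i := IsClosedImmersion.spec_of_surjective q Ideal.Quotient.mk_surjective
  haveI : IsNoetherianRing (CommRingCat.of (A ⧸ p)) := inferInstanceAs (IsNoetherianRing (A ⧸ p))
  haveI : IsDomain (CommRingCat.of (A ⧸ p)) := inferInstanceAs (IsDomain (A ⧸ p))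
  let gX := pullback.fst (f ≫ h) i
  let gY := pullback.fst h i
  let g' := pullback.snd h i
  let f' : pullback (f ≫ h) i ⟶ pullback h i :=
    pullback.lift (gX ≫ f) (pullback.snd (f ≫ h) i) (by rw [Category.assoc]; exact pullback.condition)
  have w : gX ≫ f = f' ≫ gY := (pullback.lift_fst _ _ _).symm
  have hg : f' ≫ g' = pullback.snd (f ≫ h) i := pullback.lift_snd _ _ _
  have hX : IsPullback gX (f' ≫ g') (f ≫ h) i := by
    rw [hg]
    exact IsPullback.of_hasPullback (f ≫ h) i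
  let F' := (Scheme.Modules.pullback gX).obj F
  haveI : F'.IsQuasicoherent := isQCoh_pullback_obj gX F
  have hF' : CohB1.IsFP F' := isFP_pullback gX F hF
  haveI : LocallyOfFiniteType (f' ≫ g') := MorphismProperty.of_isPullback hX inferInstance
  haveI : QuasiCompact (f' ≫ g') := MorphismProperty.of_isPullback hX inferInstance
  haveI : LocallyOfFinitePresentation (f' ≫ g') := inferInstance
  haveI : LocallyOfFiniteType g' := MorphismProperty.pullback_snd _ _ inferInstance
  obtain ⟨U, hU, hflat⟩ := Groth.FlatMorOne.exists_open_isFlatOverAt (f' ≫ g') F' fun W hW =>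
    haveI := Groth.PropsBasic.FPSections.finitePresentation_sections F' hF' hW
    inferInstance
  obtain ⟨U₁, hU₁, hU₁'⟩ := i.isClosedEmbedding.isInducing.isOpen_iff.1 U.isOpen
  let L' : Set ↥(pullback (f ≫ h) i) :=
    {x | FlatMod.IsFlatOverAt f' F' x} ∩ (f' ≫ g') ⁻¹' U
  obtain ⟨O, hO, hO'⟩ := gX.isClosedEmbedding.isInducing.isOpen_iff.1
    (show IsOpen L' from (Groth.FlatMor2.RelFlatLocus.isOpen_flatLocus f' g' F' hF').inter
      (U.2.preimage (f' ≫ g').continuous))
  let D : Set X := (f ≫ h) ⁻¹' U₁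
  have hD : IsOpen D := hU₁.preimage (f ≫ h).continuous
  have hrange : ∀ s : Spec A, (f ≫ h) ζ ⤳ s → s ∈ Set.range i := fun s hs => by
    show s ∈ Set.range (PrimeSpectrum.comap (Ideal.Quotient.mk p))
    rw [range_comap_of_surjective _ _ Ideal.Quotient.mk_surjective, Ideal.mk_ker]
    exact (PrimeSpectrum.le_iff_specializes _ _).2 hs
  have hmem : ∀ P ∈ Z, P ∈ D → (P ∈ fibFlatSet f h F ↔ P ∈ O) := by
    intro P hP hPD
    have hP' : P ∈ Set.range gX := by
      rw [Scheme.Pullback.range_fst]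
      exact hrange _ ((hζ.specializes hP).map (f ≫ h).continuous)
    obtain ⟨P', rfl⟩ := hP'
    have hP'U : (f' ≫ g') P' ∈ U := by
      rw [← SetLike.mem_coe, ← hU₁', Set.mem_preimage, ← Scheme.Hom.comp_apply, ← hX.w, Scheme.Hom.comp_apply]
      exact hPD
    rw [← Set.mem_preimage, ← fibFlatSet_baseChange f h F (IsPullback.of_hasPullback h i) hX w,
      ← Set.mem_preimage (f := gX), hO']
    rw [mem_fibFlatSet_iff f' g' F' _ ((f' ≫ g').asFiber P') P' (Scheme.Hom.fiberι_asFiber _ _),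
      FibreFlatGeneric.fibre_flat_iff f' g' F' hF' _ _ (by rw [Scheme.Hom.fiberι_asFiber]; exact hflat _ hP'U),
      Scheme.Hom.fiberι_asFiber]
    exact ⟨fun hfl => ⟨hfl, hP'U⟩, And.left⟩
  have hζD : ζ ∈ D := by
    obtain ⟨u₀, hu₀⟩ := hU
    let η : Spec (.of (A ⧸ p)) := ⟨⊥, Ideal.isPrime_bot⟩
    have hη : η ∈ (U : Set _) :=
      ((PrimeSpectrum.le_iff_specializes η u₀).1 bot_le).mem_open U.2 hu₀
    rw [← hU₁'] at hη
    have : i η = (f ≫ h) ζ := PrimeSpectrum.ext Ideal.mk_ker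
    rwa [Set.mem_preimage, this] at hη
  by_cases hE : ζ ∈ O
  · exact Or.inr ⟨O ∩ D, hO.inter hD, ⟨ζ, ⟨hE, hζD⟩, hζZ⟩, fun P hP => (hmem P hP.2 hP.1.2).2 hP.1.1⟩
  · left
    rw [IsNowhereDense, Set.eq_empty_iff_forall_notMem]
    intro z hz
    obtain ⟨V, hVsub, hV, hzV⟩ := mem_interior.1 hz
    obtain ⟨V', hV', rfl⟩ := isOpen_induced_iff.1 hV
    have hζV : ζ ∈ V' := (hζ.specializes z.2).mem_open hV' hzV
    obtain ⟨w₀, hwD, hw⟩ := mem_closure_iff.1 (hVsub (show (⟨ζ, hζZ⟩ : Z) ∈ Subtype.val ⁻¹' V' from hζV))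
      (Subtype.val ⁻¹' D) (hD.preimage continuous_subtype_val) hζD
    exact hE ((hζ.specializes w₀.2).mem_open hO ((hmem w₀.1 w₀.2 hwD).1 hw))

end Groth.FlatMor2.FibrewiseFlat
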